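import Mathlib
import Cfsg.Agent.Prune
set_option linter.all false

section
prune_inst 0x7f00000000000000000000000000000000000000000000000000000000000000000000000000000000000000000000000000000000000000000000000000000000000000000000000000000000000000003fd5fe77ffffffffffffffffffffbeffbdffffffff

-- part: DL/Dw/Gauss
section
set_option linter.all false
open scoped Cfsg.Agent.FastGrp

/-!
# Gauss bounds for polynomials over an ultrametric field

`Bd ρ C f` says that the Gauss norm of radius `ρ` of the polynomial `f` is at most `C`.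
-/

set_option autoImplicit false

namespace Cfsg.Agent.DL.Dw

open MvPolynomial

variable {E : Type*} [NormedField E] {I : Type*}

/-- the Gauss norm of radius `ρ` of `f` is at most `C` -/
def Bd (ρ C : ℝ) (f : MvPolynomial I E) : Prop :=
  ∀ w : I →₀ ℕ, ‖coeff w f‖ * ρ ^ (Finsupp.degree w) ≤ C

namespace Bd

variable {ρ C D : ℝ} {f g : MvPolynomial I E}

theorem nonneg (h : Bd ρ C f) : 0 ≤ C := by
  have := h 0
  simp only [map_zero, pow_zero, mul_one] at this
  exact (norm_nonneg _).trans this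

theorem mono (h : Bd ρ C f) (hCD : C ≤ D) : Bd ρ D f := fun w => (h w).trans hCD

theorem zero (hC : 0 ≤ C) : Bd ρ C (0 : MvPolynomial I E) := fun w => by simpa using hC

theorem neg (h : Bd ρ C f) : Bd ρ C (-f) := fun w => by simpa using h w

theorem monomial (hρ : 0 ≤ ρ) (u : I →₀ ℕ) (a : E) :
    Bd ρ (‖a‖ * ρ ^ (Finsupp.degree u)) (MvPolynomial.monomial u a) := by
  classical
  intro w
  rw [coeff_monomial]
  split_ifs with h
  · subst h; exact le_rfl
  · simp only [norm_zero, zero_mul]; positivity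

theorem const (hρ : 0 ≤ ρ) (a : E) : Bd ρ ‖a‖ (MvPolynomial.C a : MvPolynomial I E) := by
  have := monomial (I := I) hρ 0 a
  simpa using this

theorem one (hρ : 0 ≤ ρ) : Bd ρ 1 (1 : MvPolynomial I E) := by
  simpa using const (I := I) hρ (1 : E)

theorem of_one_le (hρ : 1 ≤ ρ) (h : Bd ρ C f) : Bd 1 C f := fun w => by
  refine le_trans ?_ (h w)
  rw [one_pow]
  exact mul_le_mul_of_nonneg_left (one_le_pow₀ hρ) (norm_nonneg _)

theorem of_totalDegree (hρ : 1 ≤ ρ) (h : Bd 1 C f) {d : ℕ} (hd : f.totalDegree ≤ d) :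
    Bd ρ (C * ρ ^ d) f := fun w => by
  by_cases hw : coeff w f = 0
  · rw [hw, norm_zero, zero_mul]
    exact mul_nonneg h.nonneg (by positivity)
  · have h1 : Finsupp.degree w ≤ d := by
      refine le_trans ?_ hd
      have := le_totalDegree (mem_support_iff.2 hw)
      simpa [Finsupp.degree_apply, Finsupp.sum] using this
    have h2 := h w
    rw [one_pow, mul_one] at h2
    exact mul_le_mul h2 (pow_le_pow_right₀ hρ h1) (by positivity) h.nonneg

theorem expand {q : ℕ} (hq : q ≠ 0) (h : Bd 1 C f) : Bd 1 C (MvPolynomial.expand q f) := fun w => by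
  rw [one_pow, mul_one]
  by_cases hw : ∀ i, q ∣ w i
  · obtain ⟨u, rfl⟩ : ∃ u : I →₀ ℕ, w = q • u := by
      refine ⟨Finsupp.mapRange (· / q) (by simp) w, ?_⟩
      ext i
      simp [Nat.mul_div_cancel' (hw i)]
    rw [coeff_expand_smul _ hq]
    simpa using h u
  · push Not at hw
    obtain ⟨i, hi⟩ := hw
    rw [coeff_expand_of_not_dvd _ hi, norm_zero]
    exact h.nonneg

variable [IsUltrametricDist E]

theorem add (hρ : 0 ≤ ρ) (hf : Bd ρ C f) (hg : Bd ρ C g) : Bd ρ C (f + g) := fun w => by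
  rw [coeff_add]
  have h := IsUltrametricDist.norm_add_le_max (coeff w f) (coeff w g)
  have hp : 0 ≤ ρ ^ (Finsupp.degree w) := by positivity
  refine (mul_le_mul_of_nonneg_right h hp).trans ?_
  rw [max_mul_of_nonneg _ _ hp]
  exact max_le (hf w) (hg w)

theorem sub (hρ : 0 ≤ ρ) (hf : Bd ρ C f) (hg : Bd ρ C g) : Bd ρ C (f - g) := by
  rw [sub_eq_add_neg]; exact hf.add hρ hg.neg

theorem sum (hρ : 0 ≤ ρ) {ι : Type*} {s : Finset ι} {F : ι → MvPolynomial I E} (hC : 0 ≤ C)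
    (h : ∀ i ∈ s, Bd ρ C (F i)) : Bd ρ C (∑ i ∈ s, F i) := by
  classical
  induction s using Finset.induction_on with
  | empty => simpa using zero hC
  | insert a s ha ih =>
    rw [Finset.sum_insert ha]
    exact (h a (Finset.mem_insert_self _ _)).add hρ
      (ih fun i hi => h i (Finset.mem_insert_of_mem hi))

theorem mul (hρ : 0 ≤ ρ) (hf : Bd ρ C f) (hg : Bd ρ D g) : Bd ρ (C * D) (f * g) := by
  classical
  intro w
  rw [coeff_mul]
  rcases hρ.eq_or_lt with h0 | h0
  · subst h0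
    by_cases hw : Finsupp.degree w = 0
    · have hw0 : w = 0 := (Finsupp.degree_eq_zero_iff _).1 hw
      subst hw0
      have h1 := hf 0
      have h2 := hg 0
      simp only [map_zero, pow_zero, mul_one] at h1 h2
      simp only [Finsupp.antidiagonal_zero, Finset.sum_singleton, norm_mul, map_zero, pow_zero,
        mul_one]
      exact mul_le_mul h1 h2 (norm_nonneg _) hf.nonneg
    · rw [zero_pow hw, mul_zero]
      exact mul_nonneg hf.nonneg hg.nonneg
  have hp : 0 < ρ ^ (Finsupp.degree w) := by positivity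
  rw [← le_div_iff₀ hp]
  refine IsUltrametricDist.norm_sum_le_of_forall_le_of_nonneg
    (div_nonneg (mul_nonneg hf.nonneg hg.nonneg) hp.le) ?_
  intro x hx
  rw [le_div_iff₀ hp, ← Finset.HasAntidiagonal.mem_antidiagonal.1 hx, map_add, pow_add, norm_mul]
  calc ‖coeff x.1 f‖ * ‖coeff x.2 g‖ * (ρ ^ Finsupp.degree x.1 * ρ ^ Finsupp.degree x.2)
      = (‖coeff x.1 f‖ * ρ ^ Finsupp.degree x.1) * (‖coeff x.2 g‖ * ρ ^ Finsupp.degree x.2) := by
        ring
    _ ≤ C * D := mul_le_mul (hf _) (hg _) (by positivity) hf.nonneg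

theorem pow (hρ : 0 ≤ ρ) (hf : Bd ρ C f) (n : ℕ) : Bd ρ (C ^ n) (f ^ n) := by
  induction n with
  | zero => simpa using one hρ
  | succ n ih => rw [pow_succ, pow_succ]; exact ih.mul hρ hf

theorem natCast (hρ : 0 ≤ ρ) (n : ℕ) : Bd ρ 1 (n : MvPolynomial I E) := by
  have := const (I := I) hρ (n : E)
  rw [map_natCast] at this
  exact this.mono (IsUltrametricDist.norm_natCast_le_one E n)

omit [IsUltrametricDist E] in
theorem natCast' (hρ : 0 ≤ ρ) (n : ℕ) : Bd ρ ‖(n : E)‖ (n : MvPolynomial I E) := by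
  have := const (I := I) hρ (n : E)
  rwa [map_natCast] at this

theorem eval (h : Bd 1 C f) {z : I → E} (hz : ∀ i, ‖z i‖ ≤ 1) : ‖MvPolynomial.eval z f‖ ≤ C := by
  rw [eval_eq]
  refine IsUltrametricDist.norm_sum_le_of_forall_le_of_nonneg h.nonneg fun w _ => ?_
  rw [norm_mul, norm_prod]
  have h1 := h w
  rw [one_pow, mul_one] at h1
  have h2 : ∏ i ∈ w.support, ‖z i ^ w i‖ ≤ 1 :=
    Finset.prod_le_one (fun _ _ => norm_nonneg _) fun i _ => by
      rw [norm_pow]; exact pow_le_one₀ (norm_nonneg _) (hz i)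
  calc _ ≤ ‖coeff w f‖ * 1 := mul_le_mul_of_nonneg_left h2 (norm_nonneg _)
    _ ≤ C := by rwa [mul_one]

/-- differences of powers -/
theorem pow_sub_pow (hρ : 0 ≤ ρ) {b η : ℝ} (hb : 1 ≤ b) (hf : Bd ρ b f) (hg : Bd ρ b g)
    (h : Bd ρ η (f - g)) (n : ℕ) : Bd ρ (η * b ^ n) (f ^ n - g ^ n) := by
  induction n with
  | zero => simpa using zero h.nonneg
  | succ n ih =>
    have e : f ^ (n + 1) - g ^ (n + 1) = (f ^ n - g ^ n) * f + (f - g) * g ^ n := by ring
    rw [e]
    refine add hρ ?_ ?_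
    · have := ih.mul hρ hf
      rwa [mul_assoc, ← pow_succ] at this
    · refine (h.mul hρ (hg.pow hρ n)).mono ?_
      exact mul_le_mul_of_nonneg_left (pow_le_pow_right₀ hb (Nat.le_succ n)) h.nonneg

/-- the binomial formula modulo `p` -/
theorem add_pow_prime (hρ : 0 ≤ ρ) {p : ℕ} (hp : p.Prime) {b η : ℝ} (hb : 1 ≤ b) (hη : η ≤ b)
    (hf : Bd ρ η f) (hg : Bd ρ b g) :
    Bd ρ (‖(p : E)‖ * (η * b ^ p)) ((f + g) ^ p - f ^ p - g ^ p) := by
  have e : (f + g) ^ p - f ^ p - g ^ p =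
      p * ∑ k ∈ Finset.Ioo 0 p, f ^ k * g ^ (p - k) * ((p.choose k / p : ℕ) : MvPolynomial I E) := by
    rw [add_pow_prime_eq' hp]; ring
  rw [e]
  refine (natCast' hρ p).mul hρ (sum hρ (mul_nonneg hf.nonneg (by positivity)) fun k hk => ?_)
  obtain ⟨hk0, hkp⟩ := Finset.mem_Ioo.1 hk
  obtain ⟨j, rfl⟩ : ∃ j, k = j + 1 := ⟨k - 1, by omega⟩
  have h1 : Bd ρ (η * b ^ j) (f ^ (j + 1)) := by
    rw [pow_succ']
    exact hf.mul hρ ((hf.mono hη).pow hρ j)
  refine ((h1.mul hρ (hg.pow hρ _)).mul hρ (natCast hρ _)).mono ?_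
  rw [mul_one, mul_assoc, ← pow_add]
  exact mul_le_mul_of_nonneg_left (pow_le_pow_right₀ hb (by omega)) hf.nonneg

theorem sum_pow_prime {p : ℕ} (hp : p.Prime) {ι : Type*} {s : Finset ι}
    {F : ι → MvPolynomial I E} (h : ∀ i ∈ s, Bd 1 1 (F i)) :
    Bd 1 ‖(p : E)‖ ((∑ i ∈ s, F i) ^ p - ∑ i ∈ s, F i ^ p) := by
  classical
  induction s using Finset.induction_on with
  | empty => simpa [hp.ne_zero] using zero (norm_nonneg _)
  | insert a s ha ih =>
    rw [Finset.sum_insert ha, Finset.sum_insert ha]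
    have h1 := add_pow_prime zero_le_one hp le_rfl le_rfl (h a (Finset.mem_insert_self _ _))
      (sum zero_le_one zero_le_one fun i hi => h i (Finset.mem_insert_of_mem hi))
    simp only [one_pow, mul_one] at h1
    have h2 := ih fun i hi => h i (Finset.mem_insert_of_mem hi)
    have := h1.add zero_le_one h2
    convert this using 1
    ring

end Bd

end Cfsg.Agent.DL.Dw
end

-- part: DL/Dw/Split
section
prune_inst 0x800000000000000000000000000000000000000
set_option linter.all false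
open scoped Cfsg.Agent.FastGrp

/-!
# The splitting polynomials

For a primitive `p`-th root of unity `ζ = 1 + λ` and an integral polynomial `H` with
`H ^ q ≡ H(x ^ q)`, we construct polynomials `Y N` with overconvergent bounds such that
`(1 + λ ^ p H(x ^ q)) (1 + λ Y N) ^ p - (1 + λ ^ p H)` tends to zero.
-/

set_option autoImplicit false

namespace Cfsg.Agent.DL.Dw

open MvPolynomial

variable {E : Type*} [NormedField E] [IsUltrametricDist E] {p : ℕ} {ζ : E}

omit [IsUltrametricDist E] in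
theorem norm_root (hp : p.Prime) (hζ : IsPrimitiveRoot ζ p) : ‖ζ‖ = 1 := by
  have h := congrArg norm hζ.pow_eq_one
  rw [norm_pow, norm_one] at h
  exact (pow_eq_one_iff_of_nonneg (norm_nonneg _) hp.ne_zero).1 h

theorem norm_lam_le (hp : p.Prime) (hζ : IsPrimitiveRoot ζ p) : ‖ζ - 1‖ ≤ 1 := by
  have := IsUltrametricDist.norm_add_le_max ζ (-1)
  rw [norm_neg, norm_one, norm_root hp hζ, max_self] at this
  rwa [sub_eq_add_neg]

omit [IsUltrametricDist E] in
theorem lam_ne (hp : p.Prime) (hζ : IsPrimitiveRoot ζ p) : ζ - 1 ≠ 0 :=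
  sub_ne_zero.2 (hζ.ne_one hp.one_lt)

omit [IsUltrametricDist E] in
theorem lam_eq (hp : p.Prime) (hζ : IsPrimitiveRoot ζ p) :
    (ζ - 1) ^ p + p * ∑ k ∈ Finset.Ioo 0 p, (ζ - 1) ^ k * ((p.choose k / p : ℕ) : E) = 0 := by
  have h := add_pow_prime_eq' hp (ζ - 1) (1 : E)
  rw [sub_add_cancel, hζ.pow_eq_one] at h
  simp only [one_pow, mul_one] at h
  linear_combination -h

theorem norm_lam_lt (hp : p.Prime) (hζ : IsPrimitiveRoot ζ p) (hpE : ‖(p : E)‖ < 1) :
    ‖ζ - 1‖ < 1 := by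
  have h := lam_eq hp hζ
  have h1 : ‖∑ k ∈ Finset.Ioo 0 p, (ζ - 1) ^ k * ((p.choose k / p : ℕ) : E)‖ ≤ 1 := by
    refine IsUltrametricDist.norm_sum_le_of_forall_le_of_nonneg zero_le_one fun k _ => ?_
    rw [norm_mul, norm_pow]
    exact mul_le_one₀ (pow_le_one₀ (norm_nonneg _) (norm_lam_le hp hζ)) (norm_nonneg _)
      (IsUltrametricDist.norm_natCast_le_one E _)
  have h2 : ‖ζ - 1‖ ^ p < 1 := by
    rw [← norm_pow, eq_neg_of_add_eq_zero_left h, norm_neg, norm_mul]
    calc _ ≤ ‖(p : E)‖ * 1 := mul_le_mul_of_nonneg_left h1 (norm_nonneg _)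
      _ < 1 := by rwa [mul_one]
  exact lt_of_pow_lt_pow_left₀ p zero_le_one (by rwa [one_pow])

theorem Ioo_split (hp : p.Prime) : Finset.Ioo 0 p = insert 1 (Finset.Ioo 1 p) := by
  have := hp.one_lt
  ext k
  simp only [Finset.mem_Ioo, Finset.mem_insert]
  omega

theorem norm_unit (hp : p.Prime) (hζ : IsPrimitiveRoot ζ p) (hpE : ‖(p : E)‖ < 1) :
    ‖(p : E) * (ζ - 1) / (ζ - 1) ^ p‖ ≤ 1 ∧
      ‖(p : E) * (ζ - 1) / (ζ - 1) ^ p + 1‖ ≤ ‖ζ - 1‖ := by
  set l := ζ - 1 with hl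
  set u := (p : E) * l / l ^ p with hu
  have hl0 : l ≠ 0 := lam_ne hp hζ
  have hl1 : ‖l‖ < 1 := norm_lam_lt hp hζ hpE
  have h := lam_eq hp hζ
  rw [← hl, Ioo_split hp, Finset.sum_insert (by simp only [_root_.Finset.mem_Ioo, _root_.lt_self_iff_false, _root_.false_and, _root_.not_false_eq_true]), Nat.choose_one_right,
    Nat.div_self hp.pos] at h
  have e : u + 1 = -(u * ∑ k ∈ Finset.Ioo 1 p, l ^ (k - 1) * ((p.choose k / p : ℕ) : E)) := by
    have e1 : ∑ k ∈ Finset.Ioo 1 p, l ^ k * ((p.choose k / p : ℕ) : E) =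
        l * ∑ k ∈ Finset.Ioo 1 p, l ^ (k - 1) * ((p.choose k / p : ℕ) : E) := by
      rw [Finset.mul_sum]
      refine Finset.sum_congr rfl fun k hk => ?_
      have := (Finset.mem_Ioo.1 hk).1
      rw [← mul_assoc, ← pow_succ', Nat.sub_add_cancel this.le]
    rw [e1] at h
    rw [hu]
    field_simp
    simp only [Nat.cast_one, pow_one, mul_one] at h
    linear_combination h
  have h1 : ‖∑ k ∈ Finset.Ioo 1 p, l ^ (k - 1) * ((p.choose k / p : ℕ) : E)‖ ≤ ‖l‖ := by
    refine IsUltrametricDist.norm_sum_le_of_forall_le_of_nonneg (norm_nonneg _) fun k hk => ?_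
    have := (Finset.mem_Ioo.1 hk).1
    rw [norm_mul, norm_pow]
    calc _ ≤ ‖l‖ ^ (k - 1) * 1 :=
          mul_le_mul_of_nonneg_left (IsUltrametricDist.norm_natCast_le_one E _) (by positivity)
      _ ≤ ‖l‖ := by
          rw [mul_one]
          exact pow_le_of_le_one (norm_nonneg _) hl1.le (by omega)
  have h2 : ‖u + 1‖ ≤ ‖u‖ * ‖l‖ := by
    rw [e, norm_neg, norm_mul]
    exact mul_le_mul_of_nonneg_left h1 (norm_nonneg _)
  have h3 : ‖u‖ ≤ 1 := by
    have := IsUltrametricDist.norm_add_le_max (u + 1) (-1)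
    rw [add_neg_cancel_right, norm_neg, norm_one] at this
    rcases le_max_iff.1 this with h4 | h4
    · nlinarith only [hl1, h2, h4]
    · exact h4
  refine ⟨h3, h2.trans ?_⟩
  calc _ ≤ 1 * ‖l‖ := mul_le_mul_of_nonneg_right h3 (norm_nonneg _)
    _ = _ := one_mul _

theorem norm_p_le (hp : p.Prime) (hζ : IsPrimitiveRoot ζ p) (hpE : ‖(p : E)‖ < 1) :
    ‖(p : E)‖ ≤ ‖ζ - 1‖ := by
  have hl0 := lam_ne hp hζ
  have h := (norm_unit hp hζ hpE).1
  have hl1 := norm_lam_lt hp hζ hpE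
  rw [norm_div, norm_mul, norm_pow, div_le_one (by positivity)] at h
  obtain ⟨j, hj⟩ : ∃ j, p = j + 2 := ⟨p - 2, by have := hp.two_le; omega⟩
  have h1 : ‖ζ - 1‖ ^ p ≤ ‖ζ - 1‖ * ‖ζ - 1‖ := by
    rw [hj, pow_add, pow_two]
    calc _ ≤ 1 * (‖ζ - 1‖ * ‖ζ - 1‖) :=
          mul_le_mul_of_nonneg_right (pow_le_one₀ (norm_nonneg _) hl1.le) (by positivity)
      _ = _ := one_mul _
  exact le_of_mul_le_mul_right (h.trans h1) (norm_pos_iff.2 hl0)

theorem exists_rem (hp : p.Prime) (hζ : IsPrimitiveRoot ζ p) (hpE : ‖(p : E)‖ < 1) :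
    ∃ d : ℕ → E, (∀ j ∈ Finset.Ioo 0 p, ‖d j‖ ≤ ‖ζ - 1‖) ∧
      ∀ {I : Type*} (y : MvPolynomial I E), (1 + C (ζ - 1) * y) ^ p =
        1 + C ((ζ - 1) ^ p) * (y ^ p - y + ∑ j ∈ Finset.Ioo 0 p, C (d j) * y ^ j) := by
  set l := ζ - 1 with hl
  set u := (p : E) * l / l ^ p with hu
  have hl0 : l ≠ 0 := lam_ne hp hζ
  have hl1 : ‖l‖ < 1 := norm_lam_lt hp hζ hpE
  obtain ⟨h1, h2⟩ := norm_unit hp hζ hpE
  rw [← hl, ← hu] at h1 h2
  refine ⟨fun j => if j = 1 then u + 1 else u * (l ^ (j - 1) * ((p.choose j / p : ℕ) : E)),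
    fun j hj => ?_, fun {I} y => ?_⟩
  · have := (Finset.mem_Ioo.1 hj).1
    dsimp only
    split_ifs with h
    · exact h2
    · rw [norm_mul, norm_mul, norm_pow]
      calc _ ≤ 1 * (‖l‖ ^ (j - 1) * 1) :=
            mul_le_mul h1 (mul_le_mul_of_nonneg_left (IsUltrametricDist.norm_natCast_le_one E _)
              (by positivity)) (by (clear * - hl0; positivity)) zero_le_one
        _ ≤ ‖l‖ := by
            rw [mul_one, one_mul]
            exact pow_le_of_le_one (norm_nonneg _) hl1.le (by omega)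
  · beta_reduce
    rw [add_comm 1, add_pow_prime_eq' hp, Ioo_split hp, Finset.sum_insert (by simp only [_root_.Finset.mem_Ioo, _root_.lt_self_iff_false, _root_.false_and, _root_.not_false_eq_true]),
      Finset.sum_insert (by simp only [_root_.Finset.mem_Ioo, _root_.lt_self_iff_false, _root_.false_and, _root_.not_false_eq_true]), if_pos rfl, Nat.choose_one_right, Nat.div_self hp.pos]
    have e1 : (p : MvPolynomial _ E) * ∑ k ∈ Finset.Ioo 1 p,
        (C l * y) ^ k * 1 ^ (p - k) * ((p.choose k / p : ℕ) : MvPolynomial _ E) =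
        C (l ^ p) * ∑ j ∈ Finset.Ioo 1 p,
          C (if j = 1 then u + 1 else u * (l ^ (j - 1) * ((p.choose j / p : ℕ) : E))) * y ^ j := by
      rw [Finset.mul_sum, Finset.mul_sum]
      refine Finset.sum_congr rfl fun k hk => ?_
      have hk1 := (Finset.mem_Ioo.1 hk).1
      rw [if_neg hk1.ne', ← mul_assoc (C (l ^ p)), ← map_mul]
      have e2 : l ^ p * (u * (l ^ (k - 1) * ((p.choose k / p : ℕ) : E))) =
          (p : E) * l ^ k * ((p.choose k / p : ℕ) : E) := by
        have : l ^ k = l * l ^ (k - 1) := by rw [← pow_succ', Nat.sub_add_cancel hk1.le]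
        rw [this, hu]
        field_simp
      rw [e2]
      simp only [map_mul, map_pow, map_natCast]
      ring
    have e3 : (C (l ^ p) * C (u + 1) : MvPolynomial I E) = (p : MvPolynomial I E) * C l + C l ^ p := by
      rw [← map_mul]
      have : l ^ p * (u + 1) = p * l + l ^ p := by rw [hu]; field_simp
      rw [this]
      simp only [map_add, map_mul, map_natCast, map_pow]
    rw [mul_add, e1]
    simp only [map_pow] at e3 ⊢
    simp only [Nat.cast_one, one_pow, mul_one, pow_one]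
    linear_combination (-y) * e3

theorem exists_rho {ε : ℝ} (h1 : ε < 1) (D : ℕ) : ∃ ρ : ℝ, 1 < ρ ∧ ε * ρ ^ D < 1 := by
  have hc : Continuous fun ρ : ℝ => ε * ρ ^ D := by fun_prop
  have ho : IsOpen {ρ : ℝ | ε * ρ ^ D < 1} := isOpen_lt hc continuous_const
  have hm : (1 : ℝ) ∈ {ρ : ℝ | ε * ρ ^ D < 1} := by simpa using h1
  obtain ⟨δ, hδ, hb⟩ := Metric.isOpen_iff.1 ho 1 hm
  refine ⟨1 + δ / 2, by linarith, hb ?_⟩
  rw [Metric.mem_ball, Real.dist_eq, add_sub_cancel_left, abs_of_pos (by linarith)]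
  linarith

variable {I : Type*}

/-- `H ^ (p ^ i)` summed over `i < s` -/
noncomputable def trPoly (p s : ℕ) (H : MvPolynomial I E) : MvPolynomial I E :=
  ∑ i ∈ Finset.range s, H ^ (p ^ i)

theorem exists_split (hp : p.Prime) (hζ : IsPrimitiveRoot ζ p) (hpE : ‖(p : E)‖ < 1) (s : ℕ)
    (H H' : MvPolynomial I E) (hH : Bd 1 1 H) (hH' : Bd 1 1 H')
    (hfr : Bd 1 ‖ζ - 1‖ (H ^ (p ^ s) - H')) :
    ∃ (ρ δ : ℝ) (Y : ℕ → MvPolynomial I E), 1 < ρ ∧ 0 ≤ δ ∧ δ < 1 ∧
      (∀ N, Bd ρ 1 (1 + C (ζ - 1) * Y N)) ∧ (∀ N, Bd 1 (δ ^ (N + 1)) (Y (N + 1) - Y N)) ∧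
      Y 0 = -trPoly p s H ∧
      (∀ N, (1 + C ((ζ - 1) ^ p) * H') * (1 + C (ζ - 1) * Y N) ^ p - (1 + C ((ζ - 1) ^ p) * H) =
        C ((ζ - 1) ^ p) * (Y (N + 1) - Y N)) ∧
      ∀ φ : MvPolynomial I E →ₐ[E] MvPolynomial I E, φ H = H → φ H' = H' → ∀ N, φ (Y N) = Y N := by
  obtain ⟨d, hd, hexp⟩ := exists_rem hp hζ hpE
  set l := ζ - 1 with hl
  have hl1 : ‖l‖ < 1 := norm_lam_lt hp hζ hpE
  have hpl : ‖(p : E)‖ ≤ ‖l‖ := norm_p_le hp hζ hpE
  have hlp : ‖l ^ p‖ ≤ ‖l‖ := by
    rw [norm_pow]; exact pow_le_of_le_one (norm_nonneg _) hl1.le hp.ne_zero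
  let R : MvPolynomial I E → MvPolynomial I E := fun y => ∑ j ∈ Finset.Ioo 0 p, C (d j) * y ^ j
  let T : MvPolynomial I E → MvPolynomial I E := fun y =>
    y ^ p + R y + C (l ^ p) * H' * (y ^ p - y + R y) - (H - H')
  let Y₀ : MvPolynomial I E := -trPoly p s H
  have hY₀ : Bd 1 1 Y₀ := by
    refine Bd.neg (Bd.sum zero_le_one zero_le_one fun i _ => ?_)
    simpa using hH.pow zero_le_one (p ^ i)
  have hR1 : ∀ y, Bd 1 1 y → Bd 1 ‖l‖ (R y) := fun y hy =>
    Bd.sum zero_le_one (norm_nonneg _) fun j hj => by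
      have := (Bd.const (I := I) zero_le_one (d j)).mul zero_le_one (hy.pow zero_le_one j)
      rw [one_pow, mul_one] at this
      exact this.mono (hd j hj)
  have he₀ : Bd 1 ‖l‖ (T Y₀ - Y₀) := by
    have h1 : Bd 1 ‖l‖ (trPoly p s H ^ p - ∑ i ∈ Finset.range s, (H ^ (p ^ i)) ^ p) :=
      (Bd.sum_pow_prime hp fun i _ => by simpa using hH.pow zero_le_one (p ^ i)).mono hpl
    have h2 : ∑ i ∈ Finset.range s, (H ^ (p ^ i)) ^ p = trPoly p s H + H ^ (p ^ s) - H := by
      have := Finset.sum_range_succ' (fun i => H ^ (p ^ i)) s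
      rw [Finset.sum_range_succ] at this
      simp only [pow_zero, pow_one] at this
      simp only [← pow_mul, ← pow_succ]
      rw [trPoly, this]; ring
    have h3 : Bd 1 ‖l‖ (Y₀ ^ p + trPoly p s H ^ p) := by
      have h4 := Bd.add_pow_prime zero_le_one hp le_rfl le_rfl hY₀ hY₀.neg
      simp only [one_pow, mul_one, add_neg_cancel, zero_pow hp.ne_zero] at h4
      have := (h4.mono hpl).neg
      convert this using 1
      simp only [Y₀, neg_neg]
      ring
    have h5 : Bd 1 ‖l‖ (C (l ^ p) * H' * (Y₀ ^ p - Y₀ + R Y₀)) := by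
      have h6 : Bd 1 1 (Y₀ ^ p - Y₀ + R Y₀) := by
        refine (Bd.sub zero_le_one ?_ hY₀).add zero_le_one ((hR1 _ hY₀).mono hl1.le)
        simpa using hY₀.pow zero_le_one p
      have := ((Bd.const (I := I) zero_le_one (l ^ p)).mul zero_le_one hH').mul zero_le_one h6
      rw [mul_one, mul_one] at this
      exact this.mono hlp
    have := (((h3.sub zero_le_one h1).sub zero_le_one hfr).add zero_le_one (hR1 _ hY₀)).add
      zero_le_one h5
    convert this using 1
    rw [h2]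
    simp only [T, Y₀]
    ring
  set D := max (max H.totalDegree H'.totalDegree) (max Y₀.totalDegree (T Y₀ - Y₀).totalDegree)
    with hD
  obtain ⟨ρ, hρ, hδ⟩ := exists_rho hl1 (D * (p + 1))
  have hρ0 : 0 ≤ ρ := by linarith only [hρ]
  set b := ρ ^ D with hb
  have hb1 : 1 ≤ b := one_le_pow₀ hρ.le
  set δ := ‖l‖ * b ^ (p + 1) with hδd
  have hδ1 : δ < 1 := by rwa [hδd, hb, ← pow_mul]
  have hδ0 : 0 ≤ δ := by (clear * - hρ; positivity)
  have hbp : ∀ j ≤ p + 1, ‖l‖ * b ^ j ≤ δ := fun j hj =>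
    mul_le_mul_of_nonneg_left (pow_le_pow_right₀ hb1 hj) (norm_nonneg _)
  have hHb' : Bd ρ b H' := by
    simpa using hH'.of_totalDegree hρ.le (d := D) (by omega)
  have hY₀b : Bd ρ b Y₀ := by
    simpa using hY₀.of_totalDegree hρ.le (d := D) (by omega)
  have he₀b : Bd ρ δ (T Y₀ - Y₀) :=
    (he₀.of_totalDegree hρ.le (d := D) (by omega)).mono (by simpa using hbp 1 (by omega))
  have hlip : ∀ y z η, η ≤ δ → Bd ρ b y → Bd ρ b z → Bd ρ η (y - z) → Bd ρ (η * δ) (T y - T z) := by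
    intro y z η hη hy hz hyz
    have hη0 := hyz.nonneg
    have hR : Bd ρ (‖l‖ * (η * b ^ p)) (R y - R z) := by
      have e : R y - R z = ∑ j ∈ Finset.Ioo 0 p, C (d j) * (y ^ j - z ^ j) := by
        simp only [R, mul_sub, Finset.sum_sub_distrib]
      rw [e]
      refine Bd.sum hρ0 (by (clear * - hρ hη0; positivity)) fun j hj => ?_
      refine ((Bd.const hρ0 (d j)).mul hρ0 (Bd.pow_sub_pow hρ0 hb1 hy hz hyz j)).mono ?_
      refine mul_le_mul (hd j hj) ?_ (by (clear * - hρ hη0; positivity)) (norm_nonneg _)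
      exact mul_le_mul_of_nonneg_left (pow_le_pow_right₀ hb1 (Finset.mem_Ioo.1 hj).2.le) hη0
    have hRδ : ‖l‖ * (η * b ^ p) ≤ η * δ := by
      rw [mul_left_comm]
      exact mul_le_mul_of_nonneg_left (hbp p (by omega)) hη0
    have hP : Bd ρ (η * δ) (y ^ p - z ^ p) := by
      have h1 := Bd.add_pow_prime hρ0 hp hb1 (by linarith only [hb1, hδ1, hη]) hyz hz
      have h2 : Bd ρ (η * δ) ((y - z) ^ p) := by
        refine (hyz.pow hρ0 p).mono ?_
        obtain ⟨j, hj⟩ : ∃ j, p = j + 2 := ⟨p - 2, by have := hp.two_le; omega⟩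
        rw [hj, pow_add, pow_two]
        calc η ^ j * (η * η) ≤ 1 * (η * δ) :=
              mul_le_mul (pow_le_one₀ hη0 (by linarith only [hδ1, hη])) (mul_le_mul_of_nonneg_left hη hη0)
                (by (clear * - hη0; positivity)) zero_le_one
          _ = _ := one_mul _
      have h3 := (h1.mono ((mul_le_mul_of_nonneg_right hpl (by (clear * - hρ hη0; positivity))).trans hRδ)).add hρ0 h2
      convert h3 using 1
      ring
    have hQ : Bd ρ (η * b ^ p) (y ^ p - z ^ p - (y - z) + (R y - R z)) := by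
      have hbp1 : 1 ≤ b ^ p := one_le_pow₀ hb1
      refine ((Bd.pow_sub_pow hρ0 hb1 hy hz hyz p).sub hρ0 (hyz.mono ?_)).add hρ0 (hR.mono ?_)
      · nlinarith only [hη0, hbp1]
      · have : 0 ≤ η * b ^ p := by (clear * - hρ hη0; positivity)
        nlinarith only [hl1, this]
    have hQ' : Bd ρ (η * δ) (C (l ^ p) * H' * (y ^ p - z ^ p - (y - z) + (R y - R z))) := by
      refine (((Bd.const hρ0 (l ^ p)).mul hρ0 hHb').mul hρ0 hQ).mono ?_
      calc ‖l ^ p‖ * b * (η * b ^ p) ≤ ‖l‖ * b * (η * b ^ p) := by gcongr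
        _ = η * δ := by rw [hδd]; ring
    have := (hP.add hρ0 (hR.mono hRδ)).add hρ0 hQ'
    convert this using 1
    simp only [T]
    ring
  let Y : ℕ → MvPolynomial I E := fun N => T^[N] Y₀
  have hYs : ∀ N, Y (N + 1) = T (Y N) := fun N => Function.iterate_succ_apply' T N Y₀
  have hind : ∀ N, Bd ρ b (Y N) ∧ Bd ρ (δ ^ (N + 1)) (Y (N + 1) - Y N) := by
    intro N
    induction N with
    | zero => exact ⟨hY₀b, by simpa [Y] using he₀b⟩
    | succ N ih =>
      have hle : δ ^ (N + 1) ≤ δ := pow_le_of_le_one hδ0 hδ1.le (by omega)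
      have h1 : Bd ρ b (Y (N + 1)) := by
        have := ih.1.add hρ0 (ih.2.mono (hle.trans (by linarith only [hb1, hδ1])))
        rwa [add_sub_cancel] at this
      refine ⟨h1, ?_⟩
      have := hlip _ _ _ hle h1 ih.1 ih.2
      rwa [← hYs, ← hYs, ← pow_succ] at this
  refine ⟨ρ, δ, Y, hρ, hδ0, hδ1, fun N => ?_, fun N => (hind N).2.of_one_le hρ.le, rfl,
    fun N => ?_, fun φ h1 h2 N => ?_⟩
  · refine (Bd.one hρ0).add hρ0 (((Bd.const hρ0 l).mul hρ0 (hind N).1).mono ?_)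
    have := hbp 1 (by omega)
    rw [pow_one] at this
    linarith only [hδ1, this]
  · rw [hexp, hYs]
    simp only [T, R]
    ring
  · induction N with
    | zero => simp only [Y, Y₀, trPoly, h1, _root_.Function.iterate_zero, _root_.id_eq, _root_.map_neg, _root_.map_sum, _root_.map_pow]
    | succ N ih => rw [hYs]; simp only [T, R, h1, h2, ih, _root_.MvPolynomial.C_pow, _root_.map_sub, _root_.map_add, _root_.map_pow, _root_.map_sum, _root_.map_mul, _root_.MvPolynomial.algHom_C, _root_.MvPolynomial.algebraMap_eq]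

end Cfsg.Agent.DL.Dw

private theorem dce_ba8a08d9430d : _root_.True := by
  try have : _root_.True := by simp only [_root_.Cfsg.Agent.DL.Dw.trPoly.eq_1]
  exact _root_.True.intro
end
end
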